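import Groth.Agent.TriCat.Compact
import Groth.Agent.KFlatLib.Scheme.Coproducts
import Groth.Agent.PerfGen7.LeftRes
import Mathlib.Algebra.Homology.DerivedCategory.ShortExact
import Mathlib.Algebra.Homology.GrothendieckAbelian
import Mathlib.CategoryTheory.Abelian.GrothendieckAxioms.Basic

/-!
# Compact objects of a derived category are retracts of bounded complexes
-/

set_option autoImplicit false
set_option linter.style.haveILetI false
set_option backward.isDefEq.respectTransparency false
set_option backward.isDefEq.respectTransparency.types false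

universe v u

open CategoryTheory CategoryTheory.Limits CategoryTheory.Pretriangulated

noncomputable section

namespace Groth.Agent.CompactRes7

variable {A : Type u} [Category.{v} A] [Abelian A] [IsGrothendieckAbelian.{v} A] [HasCoproducts.{v} A]
  [HasDerivedCategory.{v} A] [HasCoproducts.{v} (DerivedCategory A)]

/-- `Q` preserves coproducts. -/
lemma preservesColimit_Q_any {B : Type u} [Category.{v} B] [Abelian B] [HasDerivedCategory.{v} B] {J : Type v}
    [HasColimitsOfShape (Discrete J) B] [HasExactColimitsOfShape (Discrete J) B]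
    (K : J → CochainComplex B ℤ) :
    PreservesColimit (Discrete.functor K)
      (DerivedCategory.Q : CochainComplex B ℤ ⥤ DerivedCategory B) := by
  let Q : CochainComplex B ℤ ⥤ DerivedCategory B := DerivedCategory.Q
  have hdesc : ∀ {T : DerivedCategory B} (k : ∀ j, Q.obj (K j) ⟶ T),
      ∃ d : Q.obj (∐ K) ⟶ T, ∀ j, Q.map (Sigma.ι K j) ≫ d = k j := by
    intro T k
    let eT := Q.objObjPreimageIso T
    choose Z s hs f hf using fun j => DerivedCategory.right_fac (k j ≫ eT.inv)
    haveI : IsIso (Q.map (Limits.Sigma.map s)) := (DerivedCategory.isIso_Q_map_iff_quasiIso _ _).2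
      (TriCat.quasiIso_sigmaMap s fun j => (DerivedCategory.isIso_Q_map_iff_quasiIso _ _).1 (hs j))
    refine ⟨inv (Q.map (Limits.Sigma.map s)) ≫ Q.map (Sigma.desc f) ≫ eT.hom, fun j => ?_⟩
    haveI : IsIso (Q.map (s j)) := hs j
    rw [← cancel_epi (Q.map (s j)), ← Q.map_comp_assoc, ← Sigma.ι_map s j, Q.map_comp_assoc,
      IsIso.hom_inv_id_assoc, ← Q.map_comp_assoc, Sigma.ι_desc]
    have h := congrArg (fun g => Q.map (s j) ≫ g ≫ eT.hom) (hf j)
    simp only [Category.assoc, Iso.inv_hom_id, Category.comp_id] at h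
    rw [h]
    exact (IsIso.hom_inv_id_assoc _ _).symm
  refine preservesColimit_of_preserves_colimit_cocone (coproductIsCoproduct K) ?_
  refine (Cofan.isColimitMapCoconeEquiv Q _ _).symm ?_
  exact Cofan.IsColimit.mk _ (fun t => (hdesc t.inj).choose)
    (fun t j => (hdesc t.inj).choose_spec j)
    (fun t m hm => sub_eq_zero.1 (TriCat.sigma_Q_hom_ext _ fun j => by
      rw [Preadditive.comp_sub, sub_eq_zero]
      exact (hm j).trans ((hdesc t.inj).choose_spec j).symm))

theorem hasExactColimits_discrete (J : Type v) : HasExactColimitsOfShape (Discrete J) A := by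
  haveI : HasFiniteBiproducts A := Abelian.hasFiniteBiproducts
  haveI : HasExactColimitsOfShape (Finset (Discrete J)) A := inferInstance
  exact hasExactColimitsOfShape_discrete_of_hasExactColimitsOfShape_finset_discrete A J

/-- A morphism into the image of a coproduct of complexes involves finitely many summands. -/
theorem exists_finset_comp_eq_zero {K : DerivedCategory A} (hK : CohDer.IsCompactObject K) {J : Type v}
    (X : J → CochainComplex A ℤ) (ψ : K ⟶ DerivedCategory.Q.obj (∐ X)) :
    ∃ s : Finset J, ∀ {Y : CochainComplex A ℤ} (g : (∐ X) ⟶ Y),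
      (∀ j ∈ s, Sigma.ι X j ≫ g = 0) → ψ ≫ DerivedCategory.Q.map g = 0 := by
  classical
  haveI := hasExactColimits_discrete (A := A) J
  haveI := preservesColimit_Q_any X
  let Z : J → DerivedCategory A := fun j => DerivedCategory.Q.obj (X j)
  haveI : PreservesColimit (Discrete.functor X)
      (DerivedCategory.Q : CochainComplex A ℤ ⥤ DerivedCategory A) := preservesColimit_Q_any X
  let d : (∐ Z) ⟶ DerivedCategory.Q.obj (∐ X) := (PreservesCoproduct.iso DerivedCategory.Q X).inv
  obtain ⟨s, a, ha⟩ := TriCat.IsCompactObject.finFactor hK (ψ ≫ inv d)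
  refine ⟨s, fun {Y} g hg => ?_⟩
  rw [IsIso.comp_inv_eq] at ha
  rw [ha, Preadditive.sum_comp, Preadditive.sum_comp]
  refine Finset.sum_eq_zero fun j hj => ?_
  rw [Category.assoc, Category.assoc]
  rw [show d = sigmaComparison DerivedCategory.Q X from
    PreservesCoproduct.inv_hom DerivedCategory.Q X]
  erw [ι_comp_sigmaComparison_assoc]
  rw [← Functor.map_comp, hg j hj, Functor.map_zero, comp_zero]

/-- Among maps which eventually vanish in each degree, one is killed by a compact object. -/
theorem exists_comp_eq_zero {K : DerivedCategory A} (hK : CohDer.IsCompactObject K)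
    {P : CochainComplex A ℤ} (ψ : K ⟶ DerivedCategory.Q.obj P) (X : ℕ → CochainComplex A ℤ)
    (g : ∀ n, P ⟶ X n) (hg : ∀ i : ℤ, ∃ N : ℕ, ∀ n, N ≤ n → (g n).f i = 0) :
    ∃ n, ψ ≫ DerivedCategory.Q.map (g n) = 0 := by
  classical
  choose N hN using hg
  let X' : ULift.{v} ℕ → CochainComplex A ℤ := fun n => X n.down
  let t : ∀ (n : ℕ) (i : ℤ), P.X i ⟶ (∐ X').X i := fun n i => (g n).f i ≫ (Sigma.ι X' ⟨n⟩).f i
  let S : ∀ (i : ℤ), ℕ → (P.X i ⟶ (∐ X').X i) := fun i B => ∑ n ∈ Finset.range B, t n i
  have hS : ∀ (i : ℤ) (B : ℕ), N i ≤ B → S i B = S i (N i) := fun i B hB => by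
    refine (Finset.sum_subset (Finset.range_subset_range.2 hB) fun n hn hn' => ?_).symm
    simp only [t, hN i n (not_lt.1 fun h => hn' (Finset.mem_range.2 h)), zero_comp]
  let f : P ⟶ ∐ X' :=
    { f := fun i => S i (N i)
      comm' := fun i j hij => by
        rw [← hS i (max (N i) (N j)) (le_max_left _ _), ← hS j (max (N i) (N j)) (le_max_right _ _)]
        simp only [S, t, Preadditive.sum_comp, Preadditive.comp_sum]
        refine Finset.sum_congr rfl fun x _ => ?_
        rw [Category.assoc, HomologicalComplex.Hom.comm, ← Category.assoc]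
        erw [(g x).comm i j]
        exact Category.assoc _ _ _ }
  obtain ⟨s, hs⟩ := exists_finset_comp_eq_zero hK X' (ψ ≫ DerivedCategory.Q.map f)
  let n : ℕ := s.sup ULift.down + 1
  have hne : ∀ m : ULift.{v} ℕ, m ∈ s → m ≠ ⟨n⟩ := fun m hm h => by
    have := Finset.le_sup (f := ULift.down) hm
    rw [h] at this
    simp only [n] at this
    omega
  let p : (∐ X') ⟶ X n :=
    Sigma.desc fun m => if h : m = ⟨n⟩ then eqToHom (congrArg (fun k : ULift.{v} ℕ => X k.down) h) else 0
  have hp : f ≫ p = g n := by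
    ext i : 1
    show S i (N i) ≫ p.f i = _
    rw [← hS i (max (N i) (n + 1)) (le_max_left _ _)]
    simp only [S, t, Preadditive.sum_comp, Category.assoc, ← HomologicalComplex.comp_f, p, Sigma.ι_desc]
    rw [Finset.sum_eq_single n (fun m _ hm => by
      rw [dif_neg (fun h => hm (congrArg ULift.down h)), comp_zero, HomologicalComplex.zero_f])
      (fun h => absurd (Finset.mem_range.2 (lt_of_lt_of_le (Nat.lt_succ_self n) (le_max_right _ _))) h),
      dif_pos rfl]
    simp
    try exact Category.comp_id _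
  refine ⟨n, ?_⟩
  have h := hs p fun m hm => by
    simp only [p, Sigma.ι_desc, dif_neg (hne m hm)]
  rwa [Category.assoc, ← DerivedCategory.Q.map_comp, hp] at h

/-- A compact object has bounded above cohomology. -/
theorem exists_isLE {K : DerivedCategory A} (hK : CohDer.IsCompactObject K) :
    ∃ (L : CochainComplex A ℤ) (b : ℤ), L.IsLE b ∧ Nonempty (DerivedCategory.Q.obj L ≅ K) := by
  let L := DerivedCategory.Q.objPreimage K
  let e : DerivedCategory.Q.obj L ≅ K := DerivedCategory.Q.objObjPreimageIso K
  obtain ⟨n, hn⟩ := exists_comp_eq_zero hK e.inv (fun n => L.truncGE (n : ℤ)) (fun n => L.πTruncGE (n : ℤ))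
    fun i => ⟨i.toNat + 1, fun m hm =>
      (CochainComplex.isZero_of_isStrictlyGE (L.truncGE (m : ℤ)) (m : ℤ) i (by omega)).eq_of_tgt _ _⟩
  refine ⟨L, (n : ℤ), (CochainComplex.isLE_iff _ _).2 fun i hi => ?_, ⟨e⟩⟩
  have hQ : DerivedCategory.Q.map (L.πTruncGE (n : ℤ)) = 0 := by
    rwa [← cancel_epi e.inv, comp_zero]
  haveI := CochainComplex.quasiIsoAt_πTruncGE L (n : ℤ) i (by omega)
  rw [HomologicalComplex.exactAt_iff_isZero_homology, IsZero.iff_id_eq_zero,
    ← cancel_mono (HomologicalComplex.homologyMap (L.πTruncGE (n : ℤ)) i), zero_comp]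
  have h0 : HomologicalComplex.homologyMap (L.πTruncGE (n : ℤ)) i = 0 := by
    have h := (DerivedCategory.homologyFunctorFactors A i).hom.naturality (L.πTruncGE (n : ℤ))
    rw [Functor.comp_map, hQ, Functor.map_zero, zero_comp] at h
    exact (cancel_epi ((DerivedCategory.homologyFunctorFactors A i).hom.app L)).1
      (h.symm.trans comp_zero.symm)
  rw [h0, comp_zero]

/-- The part of a complex in degrees `< c`. -/
theorem exists_lowPart (P : CochainComplex A ℤ) (c : ℤ) :
    ∃ (Q : CochainComplex A ℤ) (g : P ⟶ Q), (∀ i, i < c → IsIso (g.f i)) ∧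
      (∀ i, c ≤ i → IsZero (Q.X i)) ∧ ∀ i, Epi (g.f i) := by
  classical
  obtain ⟨Z, hZ⟩ : ∃ Z : A, IsZero Z := ⟨_, isZero_zero A⟩
  let Q : CochainComplex A ℤ :=
    { X := fun i => if i < c then P.X i else Z
      d := fun i j => if h : i + 1 = j ∧ j < c then
        eqToHom (if_pos (show i < c by omega)) ≫ P.d i j ≫ eqToHom (if_pos h.2).symm else 0
      shape := fun i j h => dif_neg fun h' => h h'.1
      d_comp_d' := fun i j k _ _ => by
        by_cases h : j + 1 = k ∧ k < c
        · by_cases h' : i + 1 = j ∧ j < c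
          · simp [dif_pos h, dif_pos h']
          · simp [dif_neg h']
        · simp [dif_neg h] }
  let g : P ⟶ Q :=
    { f := fun i => if h : i < c then eqToHom (if_pos h).symm else 0
      comm' := fun i j hij => by
        change i + 1 = j at hij
        by_cases hj : j < c
        · simp [Q, dif_pos hj, dif_pos (show i < c by omega), dif_pos (And.intro hij hj)]
        · exact IsZero.eq_of_tgt (by simp only [Q, if_neg hj]; exact hZ) _ _ }
  refine ⟨Q, g, fun i hi => ?_, fun i hi => ?_, fun i => ?_⟩
  · simp only [g, dif_pos hi]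
    infer_instance
  · simp only [Q, if_neg (not_lt.2 hi)]
    exact hZ
  · by_cases hi : i < c
    · simp only [g, dif_pos hi]
      infer_instance
    · exact ⟨fun {Y} u v _ => IsZero.eq_of_src (by simp only [Q, if_neg hi]; exact hZ) u v⟩

/-- Replace a complex by the kernel of a degreewise epimorphism killed by the compact object. -/
theorem exists_retract_kernel {K : DerivedCategory A} {P Q : CochainComplex A ℤ}
    (r : Retract K (DerivedCategory.Q.obj P)) (g : P ⟶ Q) (hg : ∀ i, Epi (g.f i))
    (h : r.i ≫ DerivedCategory.Q.map g = 0) : Nonempty (Retract K (DerivedCategory.Q.obj (kernel g))) := by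
  haveI : Epi g := HomologicalComplex.epi_of_epi_f g hg
  let S := ShortComplex.mk (kernel.ι g) g (kernel.condition g)
  have hS : S.ShortExact :=
    ShortComplex.ShortExact.mk' (ShortComplex.exact_of_f_is_kernel _ (kernelIsKernel g)) inferInstance ‹_›
  obtain ⟨l, hl⟩ := Triangle.coyoneda_exact₂ _ (DerivedCategory.triangleOfSES_distinguished hS) r.i h
  exact ⟨⟨l, DerivedCategory.Q.map (kernel.ι g) ≫ r.r,
    ((Category.assoc _ _ _).symm.trans (congrArg (fun z => z ≫ r.r) hl.symm)).trans r.retract⟩⟩

/-- The kernel in each degree. -/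
theorem nonempty_kernel_f_iso {P Q : CochainComplex A ℤ} (g : P ⟶ Q) (i : ℤ) :
    Nonempty ((kernel g).X i ≅ kernel (g.f i)) :=
  ⟨PreservesKernel.iso (HomologicalComplex.eval A (ComplexShape.up ℤ) i) g⟩

/-- A compact object is a retract of a bounded complex with terms in a class with enough objects. -/
theorem exists_bounded {K : DerivedCategory A} (hK : CohDer.IsCompactObject K)
    (p : ObjectProperty A) [p.IsClosedUnderIsomorphisms] (hp : PerfGen7.LeftRes.Enough p) :
    ∃ (P : CochainComplex A ℤ) (a b : ℤ), (∀ i, i < a ∨ b < i → IsZero (P.X i)) ∧ (∀ i, p (P.X i)) ∧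
      Nonempty (Retract K (DerivedCategory.Q.obj P)) := by
  obtain ⟨L, b, hL, ⟨e⟩⟩ := exists_isLE hK
  haveI := hL
  obtain ⟨P, v, hP, hPb, hv⟩ := PerfGen7.LeftRes.exists_res p hp L b
  haveI := hv
  let e' : DerivedCategory.Q.obj P ≅ K := asIso (DerivedCategory.Q.map v) ≪≫ e
  choose Q g hgi hgz hge using fun n : ℕ => exists_lowPart P (-(n : ℤ))
  obtain ⟨n, hn⟩ := exists_comp_eq_zero hK e'.inv Q g fun i => ⟨(-i).toNat, fun m hm =>
    (hgz m i (by omega)).eq_of_tgt _ _⟩
  refine ⟨kernel (g n), -(n : ℤ), b, fun i hi => ?_, fun i => ?_,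
    exists_retract_kernel { i := e'.inv, r := e'.hom } (g n) (hge n) hn⟩
  · obtain ⟨k⟩ := nonempty_kernel_f_iso (g n) i
    refine IsZero.of_iso ?_ k
    rcases hi with hi | hi
    · haveI := hgi n i hi
      exact isZero_kernel_of_mono _
    · exact IsZero.of_mono (kernel.ι _) ((CochainComplex.isStrictlyLE_iff P b).1 hPb i hi)
  · obtain ⟨k⟩ := nonempty_kernel_f_iso (g n) i
    refine p.prop_of_iso k.symm ?_
    by_cases hi : i < -(n : ℤ)
    · haveI := hgi n i hi
      exact hp.of_isZero (isZero_kernel_of_mono _)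
    · have hz : (g n).f i = 0 := (hgz n i (by omega)).eq_of_tgt _ _
      exact p.prop_of_iso (kernelZeroIsoSource.symm ≪≫ eqToIso (congrArg (fun φ => kernel φ) hz.symm)) (hP i)

end Groth.Agent.CompactRes7

end
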