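import Groth.Agent.CompactRes7.Bounded
import Mathlib.Algebra.Category.Grp.Colimits
import Mathlib.CategoryTheory.Preadditive.Yoneda.Basic
import Mathlib.GroupTheory.QuotientGroup.Basic

/-!
# Cutting down to finite sums
-/

set_option autoImplicit false
set_option linter.style.haveILetI false
set_option backward.isDefEq.respectTransparency false
set_option backward.isDefEq.respectTransparency.types false

universe v u

open CategoryTheory CategoryTheory.Limits CategoryTheory.Pretriangulated Opposite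

noncomputable section

namespace Groth.Agent.CompactRes7

variable {A : Type u} [Category.{v} A] [Abelian A] [IsGrothendieckAbelian.{v} A] [HasCoproducts.{v} A]
  [HasFiniteBiproducts A] (S : Set A)

/-- Sums of members of `S`. -/
def sums : ObjectProperty A := fun M =>
  ∃ (κ : Type v) (E : κ → A), (∀ x, E x ∈ S) ∧ Nonempty (M ≅ ∐ E)

/-- Finite sums of members of `S`. -/
def finSums : ObjectProperty A := fun M =>
  ∃ (n : ℕ) (E : Fin n → A), (∀ j, E j ∈ S) ∧ Nonempty (M ≅ ⨁ E)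

instance : (sums S).IsClosedUnderIsomorphisms where
  of_iso := fun e ⟨κ, E, hE, ⟨i⟩⟩ => ⟨κ, E, hE, ⟨e.symm ≪≫ i⟩⟩

instance : (finSums S).IsClosedUnderIsomorphisms where
  of_iso := fun e ⟨κ, E, hE, ⟨i⟩⟩ => ⟨κ, E, hE, ⟨e.symm ≪≫ i⟩⟩

variable {S}

theorem enough_sums (h1 : ∀ X : A, ∃ (ι : Type v) (E : ι → A) (π : ∐ E ⟶ X), (∀ i, E i ∈ S) ∧ Epi π) :
    PerfGen7.LeftRes.Enough (sums S) := by
  refine ⟨?_, ?_, fun X => ?_⟩
  · refine ⟨∐ (fun e : PEmpty.{v + 1} => e.elim), ?_, PEmpty, _, fun x => x.elim, ⟨Iso.refl _⟩⟩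
    rw [IsZero.iff_id_eq_zero]
    exact Sigma.hom_ext _ _ fun e => e.elim
  · rintro X Y ⟨κ, E, hE, ⟨e⟩⟩ ⟨κ', E', hE', ⟨e'⟩⟩
    refine ⟨κ ⊕ κ', Sum.elim E E', fun x => Sum.casesOn x hE hE', ⟨biprod.mapIso e e' ≪≫
      { hom := biprod.desc (Sigma.desc fun x => Sigma.ι (Sum.elim E E') (Sum.inl x))
          (Sigma.desc fun x => Sigma.ι (Sum.elim E E') (Sum.inr x))
        inv := Sigma.desc fun x => Sum.casesOn x (motive := fun x => Sum.elim E E' x ⟶ (∐ E) ⊞ ∐ E')
          (fun a => Sigma.ι E a ≫ biprod.inl) (fun b => Sigma.ι E' b ≫ biprod.inr)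
        hom_inv_id := by
          apply biprod.hom_ext'
          · refine Sigma.hom_ext _ _ fun a => ?_
            simp
          · refine Sigma.hom_ext _ _ fun b => ?_
            simp
        inv_hom_id := Sigma.hom_ext _ _ fun x => by cases x <;> simp }⟩⟩
  · obtain ⟨κ, E, π, hE, hπ⟩ := h1 X
    exact ⟨_, π, ⟨κ, E, hE, ⟨Iso.refl _⟩⟩, hπ⟩

/-- A map out of an object compact for sums involves finitely many summands. -/
theorem exists_finset_of_coyoneda {E : A} {κ : Type v}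
    [PreservesColimitsOfShape (Discrete κ) (preadditiveCoyoneda.obj (op E))] (X : κ → A) (f : E ⟶ ∐ X) :
    ∃ s : Finset κ, ∀ {Y : A} (g : (∐ X) ⟶ Y), (∀ x ∈ s, Sigma.ι X x ≫ g = 0) → f ≫ g = 0 := by
  classical
  let G : AddSubgroup (E ⟶ ∐ X) :=
    { carrier := {f | ∃ s : Finset κ, ∀ {Y : A} (g : (∐ X) ⟶ Y), (∀ x ∈ s, Sigma.ι X x ≫ g = 0) → f ≫ g = 0}
      zero_mem' := ⟨∅, fun g _ => zero_comp⟩
      add_mem' := fun {a b} ⟨s, hs⟩ ⟨t, ht⟩ => ⟨s ∪ t, fun g hg => by
        rw [Preadditive.add_comp, hs g fun x hx => hg x (Finset.mem_union_left _ hx),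
          ht g fun x hx => hg x (Finset.mem_union_right _ hx), add_zero]⟩
      neg_mem' := fun {a} ⟨s, hs⟩ => ⟨s, fun g hg => by rw [Preadditive.neg_comp, hs g hg, neg_zero]⟩ }
  let F := preadditiveCoyoneda.obj (op E)
  let q : F.obj (∐ X) ⟶ AddCommGrpCat.of ((E ⟶ ∐ X) ⧸ G) := AddCommGrpCat.ofHom (QuotientAddGroup.mk' G)
  have hq : q = 0 := (isColimitOfPreserves F (coproductIsCoproduct X)).hom_ext fun ⟨x⟩ => by
    ext a
    refine (QuotientAddGroup.eq_zero_iff _).2 ⟨{x}, fun g hg => ?_⟩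
    exact (Category.assoc _ _ _).trans ((congrArg (fun z => a ≫ z) (hg x (Finset.mem_singleton_self x))).trans comp_zero)
  obtain ⟨s, hs⟩ : f ∈ G := (QuotientAddGroup.eq_zero_iff _).1 (congr($hq f) : _)
  exact ⟨s, hs⟩

variable (h2 : ∀ E ∈ S, ∀ ι : Type v, PreservesColimitsOfShape (Discrete ι) (preadditiveCoyoneda.obj (op E)))

include h2 in
theorem exists_finset_of_finSums {M : A} (hM : finSums S M) {κ : Type v} (X : κ → A) (f : M ⟶ ∐ X) :
    ∃ s : Finset κ, ∀ {Y : A} (g : (∐ X) ⟶ Y), (∀ x ∈ s, Sigma.ι X x ≫ g = 0) → f ≫ g = 0 := by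
  classical
  obtain ⟨n, E, hE, ⟨e⟩⟩ := hM
  have hj : ∀ j, ∃ s : Finset κ, ∀ {Y : A} (g : (∐ X) ⟶ Y), (∀ x ∈ s, Sigma.ι X x ≫ g = 0) →
      (biproduct.ι E j ≫ e.inv ≫ f) ≫ g = 0 := fun j => by
    haveI := h2 _ (hE j) κ
    exact exists_finset_of_coyoneda X _
  choose s hs using hj
  refine ⟨Finset.univ.biUnion s, fun g hg => ?_⟩
  rw [← cancel_epi e.inv, comp_zero]
  refine biproduct.hom_ext' _ _ fun j => ?_
  rw [comp_zero]
  have := hs j g fun x hx => hg x (Finset.mem_biUnion.2 ⟨j, Finset.mem_univ _, hx⟩)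
  simpa only [Category.assoc] using this

variable [HasDerivedCategory.{v} A] [HasCoproducts.{v} (DerivedCategory A)]

include h2 in
/-- One degree can be cut down to a finite sum. -/
theorem exists_step {K : DerivedCategory A} (hK : CohDer.IsCompactObject K) {P : CochainComplex A ℤ}
    (r : Retract K (DerivedCategory.Q.obj P)) (k : ℤ) (hk : sums S (P.X k)) (hk' : finSums S (P.X (k - 1))) :
    ∃ P' : CochainComplex A ℤ, Nonempty (Retract K (DerivedCategory.Q.obj P')) ∧ finSums S (P'.X k) ∧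
      ∀ i, i ≠ k → Nonempty (P'.X i ≅ P.X i) := by
  classical
  obtain ⟨κ, E, hE, ⟨θ⟩⟩ := hk
  obtain ⟨s₀, hs₀⟩ := exists_finset_of_finSums h2 hk' E (P.d (k - 1) k ≫ θ.hom)
  -- the projection away from a finite set of summands
  let π : ∀ s : Finset κ, (∐ E) ⟶ ∐ (fun x : {x : κ // x ∉ s} => E x.1) := fun s =>
    Sigma.desc fun x => if h : x ∈ s then 0 else Sigma.ι (fun x : {x : κ // x ∉ s} => E x.1) ⟨x, h⟩
  have hπ : ∀ s, ∀ x ∈ s, Sigma.ι E x ≫ π s = 0 := fun s x hx => by simp [π, hx]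
  let W : A := ∐ (fun x : {x : κ // x ∉ s₀} => E x.1)
  have hd₀ : ∀ i, (ComplexShape.up ℤ).Rel i k → P.d i k ≫ θ.hom ≫ π s₀ = 0 := by
    intro i hi
    obtain rfl : i = k - 1 := by change i + 1 = k at hi; omega
    rw [← Category.assoc]
    exact hs₀ _ (hπ s₀)
  let sng := HomologicalComplex.single A (ComplexShape.up ℤ) k
  let X : {x : κ // x ∉ s₀} → CochainComplex A ℤ := fun x => sng.obj (E x.1)
  let c : (∐ X) ≅ sng.obj W := PreservesCoproduct.iso sng _ |>.symm
  obtain ⟨s₁, hs₁⟩ := exists_finset_comp_eq_zero hK X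
    (r.i ≫ DerivedCategory.Q.map (HomologicalComplex.mkHomToSingle (θ.hom ≫ π s₀) hd₀ ≫ c.inv))
  let F : Finset κ := s₀ ∪ s₁.map (Function.Embedding.subtype _)
  let V : A := ∐ (fun x : {x : κ // x ∉ F} => E x.1)
  have hd : ∀ i, (ComplexShape.up ℤ).Rel i k → P.d i k ≫ θ.hom ≫ π F = 0 := by
    intro i hi
    obtain rfl : i = k - 1 := by change i + 1 = k at hi; omega
    rw [← Category.assoc]
    exact hs₀ _ fun x hx => hπ F x (Finset.mem_union_left _ hx)
  let g : P ⟶ sng.obj V := HomologicalComplex.mkHomToSingle (θ.hom ≫ π F) hd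
  let σ : V ⟶ ∐ E := Sigma.desc fun x => Sigma.ι E x.1
  have hσ : σ ≫ π F = 𝟙 V := Sigma.hom_ext _ _ fun x => by
    simp [σ, π, x.2]
    exact (Category.comp_id _).symm
  haveI : Epi (π F) := (SplitEpi.mk σ hσ).epi
  have hge : ∀ i, Epi (g.f i) := fun i => by
    by_cases hi : i = k
    · subst hi
      rw [HomologicalComplex.mkHomToSingle_f]
      infer_instance
    · exact ⟨fun u w _ => (HomologicalComplex.isZero_single_obj_X (ComplexShape.up ℤ) k V i hi).eq_of_src u w⟩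
  -- it is killed by `r.i`
  let q : W ⟶ V := Sigma.desc fun x => Sigma.ι E x.1 ≫ π F
  have hq : π s₀ ≫ q = π F := Sigma.hom_ext _ _ fun x => by
    by_cases hx : x ∈ s₀
    · rw [reassoc_of% hπ s₀ x hx, zero_comp, hπ F x (Finset.mem_union_left _ hx)]
    · simp [π, q, hx]
  have hz : r.i ≫ DerivedCategory.Q.map g = 0 := by
    have hg : g = (HomologicalComplex.mkHomToSingle (θ.hom ≫ π s₀) hd₀ ≫ c.inv) ≫ c.hom ≫ sng.map q := by
      rw [Category.assoc, Iso.inv_hom_id_assoc]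
      refine HomologicalComplex.to_single_hom_ext ?_
      rw [HomologicalComplex.comp_f, HomologicalComplex.mkHomToSingle_f, HomologicalComplex.mkHomToSingle_f,
        HomologicalComplex.single_map_f_self]
      rw [← hq]
      simp
    rw [hg, DerivedCategory.Q.map_comp, ← Category.assoc]
    refine hs₁ _ fun x hx => ?_
    have hc : Sigma.ι X x ≫ c.hom = sng.map (Sigma.ι (fun x : {x : κ // x ∉ s₀} => E x.1) x) := by
      simp [c, X, PreservesCoproduct.inv_hom]
    rw [reassoc_of% hc, ← sng.map_comp, Sigma.ι_desc, hπ F x.1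
      (Finset.mem_union_right _ (Finset.mem_map_of_mem _ hx)), sng.map_zero]
  obtain ⟨r'⟩ := exists_retract_kernel r g hge hz
  refine ⟨kernel g, ⟨r'⟩, ?_, fun i hi => ?_⟩
  · obtain ⟨e⟩ := nonempty_kernel_f_iso g k
    let e₁ : kernel (g.f k) ≅ kernel (π F) := kernel.mapIso _ _ θ (HomologicalComplex.singleObjXSelf _ k V) (by
      rw [HomologicalComplex.mkHomToSingle_f]; simp)
    let w : Fin F.card → A := fun i => E (F.equivFin.symm i).1
    let a : (⨁ w) ⟶ ∐ E := biproduct.desc fun i => Sigma.ι E (F.equivFin.symm i).1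
    let b : (∐ E) ⟶ ⨁ w := Sigma.desc fun x => if h : x ∈ F then
      eqToHom (congrArg E (congrArg Subtype.val (F.equivFin.symm_apply_apply ⟨x, h⟩)).symm) ≫
        biproduct.ι w (F.equivFin ⟨x, h⟩) else 0
    have hab : a ≫ b = 𝟙 _ := biproduct.hom_ext' _ _ fun i => by
      have hc : ∀ (j : Fin F.card) (hj : j = i), eqToHom (congrArg w hj.symm) ≫ biproduct.ι w j = biproduct.ι w i := by
        rintro j rfl; simp
      rw [biproduct.ι_desc_assoc, Sigma.ι_desc, dif_pos (F.equivFin.symm i).2, Category.comp_id]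
      exact hc _ (F.equivFin.apply_symm_apply i)
    have haπ : a ≫ π F = 0 := biproduct.hom_ext' _ _ fun i => by
      rw [biproduct.ι_desc_assoc, comp_zero, hπ F _ (F.equivFin.symm i).2]
    have htot : b ≫ a + π F ≫ σ = 𝟙 _ := Sigma.hom_ext _ _ fun x => by
      rw [Preadditive.comp_add, Category.comp_id]
      by_cases hx : x ∈ F
      · rw [reassoc_of% hπ F x hx, zero_comp, add_zero, Sigma.ι_desc_assoc, dif_pos hx, Category.assoc,
          biproduct.ι_desc]
        have hc : ∀ (y : κ) (hy : y = x), eqToHom (congrArg E hy.symm) ≫ Sigma.ι E y = Sigma.ι E x := by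
          rintro y rfl; simp
        exact hc _ (congrArg Subtype.val (F.equivFin.symm_apply_apply ⟨x, hx⟩))
      · simp [b, π, σ, hx]
    let spl : (ShortComplex.mk a (π F) haπ).Splitting := { r := b, s := σ, f_r := hab, s_g := hσ, id := htot }
    exact ⟨_, w, fun i => hE _, ⟨e ≪≫ e₁ ≪≫
      (IsLimit.conePointUniqueUpToIso spl.shortExact.fIsKernel (kernelIsKernel (π F))).symm⟩⟩
  · obtain ⟨e⟩ := nonempty_kernel_f_iso g i
    have hz' : g.f i = 0 :=
      (HomologicalComplex.isZero_single_obj_X (ComplexShape.up ℤ) k V i hi).eq_of_tgt _ _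
    exact ⟨e ≪≫ eqToIso (congrArg (fun φ => kernel φ) hz') ≪≫ kernelZeroIsoSource⟩

include h2 in
/-- A compact object is a retract of a bounded complex of finite sums. -/
theorem exists_finite (h1 : ∀ X : A, ∃ (ι : Type v) (E : ι → A) (π : ∐ E ⟶ X), (∀ i, E i ∈ S) ∧ Epi π)
    {K : DerivedCategory A} (hK : CohDer.IsCompactObject K) :
    ∃ (P : CochainComplex A ℤ) (a b : ℤ), (∀ i, i < a ∨ b < i → IsZero (P.X i)) ∧
      (∀ i, finSums S (P.X i)) ∧ Nonempty (Retract K (DerivedCategory.Q.obj P)) := by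
  obtain ⟨P, a, b, hz, hP, hr⟩ := exists_bounded hK (sums S) (enough_sums h1)
  have hzero : ∀ {M : A}, IsZero M → finSums S M := fun {M} hM =>
    ⟨0, fun j => j.elim0, fun j => j.elim0, ⟨hM.iso (by
      rw [IsZero.iff_id_eq_zero]; exact biproduct.hom_ext' _ _ fun j => j.elim0)⟩⟩
  suffices H : ∀ n : ℕ, ∃ P' : CochainComplex A ℤ, Nonempty (Retract K (DerivedCategory.Q.obj P')) ∧
      (∀ i, i < a ∨ b < i → IsZero (P'.X i)) ∧ (∀ i, i < a + n → finSums S (P'.X i)) ∧
      ∀ i, a + n ≤ i → sums S (P'.X i) by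
    obtain ⟨P', hr', hz', hf, -⟩ := H (b - a + 1).toNat
    refine ⟨P', a, b, hz', fun i => ?_, hr'⟩
    by_cases hi : b < i
    · exact hzero (hz' i (Or.inr hi))
    · exact hf i (by omega)
  intro n
  induction n with
  | zero => exact ⟨P, hr, hz, fun i hi => hzero (hz i (Or.inl (by omega))), fun i _ => hP i⟩
  | succ n ih =>
    obtain ⟨P', ⟨r⟩, hz', hf, hs⟩ := ih
    by_cases hb : b < a + n
    · exact ⟨P', ⟨r⟩, hz', fun i hi => if h : b < i then hzero (hz' i (Or.inr h)) else hf i (by omega),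
        fun i hi => hs i (by omega)⟩
    obtain ⟨P'', hr'', hk, hiso⟩ := exists_step h2 hK r (a + n) (hs _ le_rfl) (hf _ (by omega))
    refine ⟨P'', hr'', fun i hi => ?_, fun i hi => ?_, fun i hi => ?_⟩
    · obtain ⟨e⟩ := hiso i (by omega)
      exact (hz' i hi).of_iso e
    · rcases eq_or_ne i (a + n) with rfl | hne
      · exact hk
      · obtain ⟨e⟩ := hiso i hne
        exact (finSums S).prop_of_iso e.symm (hf i (by omega))
    · obtain ⟨e⟩ := hiso i (by omega)
      exact (sums S).prop_of_iso e.symm (hs i (by omega))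

end Groth.Agent.CompactRes7

end
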